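import Groth.Agent.Lib.MultAct19.Pair
import Groth.Agent.Lib.GaPts.Basic
import Groth.Agent.Lib.FixLine19
import Mathlib.Algebra.Polynomial.RingDivision

/-!
# Pointed morphisms from the affine line to a torus are trivial
-/

set_option autoImplicit false
set_option linter.style.haveILetI false
set_option backward.isDefEq.respectTransparency.types false
universe u

open CategoryTheory Limits MonoidalCategory CartesianMonoidalCategory MonObj AlgebraicGeometry Polynomial
open Groth.Agent.DiagGL

noncomputable section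

namespace Groth.Agent.GaTorus19

variable {k : Type u} [Field k]

/-- A torus is diagonalisable over some extension field. -/
theorem exists_chars_torus {H : Over (Spec (CommRingCat.of k))} [GrpObj H] (hH : Red.IsTorus H) :
    ∃ (K : Type u) (_ : Field K) (_ : Algebra k K) (M : Type) (_ : AddCommGroup M),
      Nonempty (Chars M (Red.bc (Spec.map (CommRingCat.ofHom (algebraMap k K))) H)) := by
  obtain ⟨S', f, -, hfs, -, hloc⟩ := hH
  obtain ⟨s', -⟩ := hfs.surj (IsLocalRing.closedPoint k)
  obtain ⟨U, hsU, r, ⟨iso⟩⟩ := hloc s'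
  let p : (U : Scheme.{u}) := ⟨s', hsU⟩
  let K := (U : Scheme.{u}).residueField p
  let q : Spec (CommRingCat.of K) ⟶ Spec (CommRingCat.of k) := (U : Scheme.{u}).fromSpecResidueField p ≫ U.ι ≫ f
  letI : Algebra k K := (Spec.preimage q).hom.toAlgebra
  have e : Spec.map (CommRingCat.ofHom (algebraMap k K)) = q := Spec.map_preimage q
  refine ⟨K, inferInstance, inferInstance, Fin r → ℤ, inferInstance, ?_⟩
  rw [e]
  exact ⟨MultAct19.charsComp _ _
    (Chars.baseChange _ _ ((charsDS (U : Scheme.{u}) (Fin r → ℤ)).transport iso))⟩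

/-- A pointed morphism from `𝔾_a` to a torus is trivial. -/
theorem eq_one_of_pointed {T : Over (Spec (CommRingCat.of k))} [GrpObj T] (hT : Red.IsTorus T)
    (h : Red.Ga (Spec (CommRingCat.of k)) ⟶ T)
    (h0 : η[Red.Ga (Spec (CommRingCat.of k))] ≫ h = η[T]) : h = 1 := by
  obtain ⟨K, _, _, M, _, ⟨Ch⟩⟩ := exists_chars_torus hT
  set qK := Spec.map (CommRingCat.ofHom (algebraMap k K))
  let A : Over (Spec (CommRingCat.of K)) := FixLine19.sp (k := K) K[X]
  let P : Over (Spec (CommRingCat.of K)) := FixLine19.sp (k := K) K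
  let U : (Over.map qK).obj A ⟶ Red.Ga (Spec (CommRingCat.of k)) := GaPts.ptOfFn (FixLine19.el (k := K) X)
  -- the universal point goes to one
  have hU : U ≫ h = 1 := by
    obtain ⟨x, hx⟩ := fl_surjective qK T (U ≫ h)
    let z : P ⟶ A := FixLine19.spMap (Polynomial.aeval (0 : K))
    have hz : (Over.map qK).map z ≫ U = 1 := by
      rw [GaPts.ptOfFn_comp]
      show (GaPts.ptOfFn (z.left.appTop (FixLine19.el (k := K) X)) :
        (Over.map qK).obj P ⟶ Red.Ga (Spec (CommRingCat.of k))) = 1
      rw [FixLine19.spMap_el, Polynomial.aeval_X, FixLine19.el, map_zero, GaPts.ptOfFn_zero]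
    have hzx : z ≫ x = 1 := by
      apply fl_injective
      rw [fl_comp, hx, ← Category.assoc, hz, MultAct19.fl_one]
      rw [Hom.one_def, Category.assoc, h0, ← Hom.one_def]
    have hx1 : x = 1 := by
      refine Ch.inj fun a => ?_
      rw [Ch.one]
      set e := (Scheme.ΓSpecIso (CommRingCat.of K[X]))
      have hu : IsUnit (e.hom (Ch.ch x a)) := ((Group.isUnit a).map (Ch.ch x)).map _
      obtain ⟨c, -, hc⟩ := Polynomial.isUnit_iff.mp hu
      have hcx : Ch.ch x a = FixLine19.el (k := K) (C c : K[X]) := by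
        show _ = e.inv (C c)
        rw [hc]
        exact (Iso.hom_inv_id_apply e _).symm
      have h1 := Ch.nat z x a
      rw [hzx, Ch.one, hcx, FixLine19.spMap_el, Polynomial.aeval_C] at h1
      have hc1 : c = 1 := by
        have := congrArg (Scheme.ΓSpecIso (CommRingCat.of K)).hom h1
        rw [map_one, FixLine19.el, Iso.inv_hom_id_apply] at this
        simpa using this.symm
      rw [hcx, hc1, map_one, FixLine19.el, map_one]
    rw [← hx, hx1, MultAct19.fl_one]
  refine MultAct19.eq_of_bc (K := K) h 1 fun T' π => ?_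
  let v : Γ(T'.left, ⊤) := Red.gaFn (S := Spec (CommRingCat.of k)) (X := (Over.map qK).obj T') π
  letI : Algebra K Γ(T'.left, ⊤) := (FixLine19.str T').toAlgebra
  let t : T' ⟶ A := FixLine19.toSp T' (Polynomial.aeval v).toRingHom
    (RingHom.ext fun c => (Polynomial.aeval v).commutes c)
  have hπ : π = (Over.map qK).map t ≫ U := by
    rw [GaPts.ptOfFn_comp]
    apply GaPts.gaFn_injective
    simp only [GaPts.gaFn_ptOfFn]
    show v = t.left.appTop (FixLine19.el (k := K) X)
    rw [FixLine19.toSp_el]
    exact (Polynomial.aeval_X v).symm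
  rw [MonObj.comp_one, hπ, Category.assoc, hU, MonObj.comp_one]

end Groth.Agent.GaTorus19
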